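import Cfsg.Agent.H441.RG.NrmK

/-!
# S3509, exceptional groups: the fixed points of a frame automorphism in a centraliser modulo `K0` (helper441)

The frame of `H28/RG/Form.lean` and `H441/RG/NrmK.lean`; `P = PP0` a Sylow subgroup of `C = fixC α t`, every nonempty
`θ`-invariant closed set of positive roots of `Sx t` carries a nontrivial fixed element.

* `KK0_normal` : `K0 ◁ C`;
* `frattini` : every `c ∈ C` is `κ k`, `κ ∈ K0`, `k ∈ C` over `w ∈ PP t` (the component group);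
* `pow_mem` : `c ^ |PP t| ∈ K0 · T^α`;
* `mem_of_coprime` : the elements of `C` of order prime to `|PP t|` lie in `K0 · T^α`.
-/

set_option autoImplicit false
set_option linter.unusedSectionVars false

namespace Cfsg.Agent.H441.RG

open CoxeterSystem Cfsg.Agent.ChevalleyStructure.CoxeterGeom Cfsg.Agent.Tits.Roots Cfsg.Agent.Tits.Core
  Cfsg.Agent.Tits.RootComb Cfsg.Agent.Tits.Exchange Cfsg.Agent.Nodes.Reps Cfsg.Agent.Nodes.BNOf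
  Cfsg.Agent.Nodes.StabComb Cfsg.Agent.Nodes.Bruhat Cfsg.Agent.Nodes.OppDec Cfsg.Agent.Nodes.LeviDec
  Cfsg.Agent.Nodes.NormalForm Cfsg.Agent.Nodes.SubComb Cfsg.Agent.KFacts.RgdField
  Cfsg.Agent.BpExc.TorCent Cfsg.Agent.BpExc.Tow Cfsg.Agent.BpExc.Fr Cfsg.Agent.BpExc.Pair Cfsg.Agent.H28.RG

variable {I W Y : Type*} [Fintype I] [DecidableEq I] [Group W] [Finite W] [Group Y] {M : CoxeterMatrix I}
  {cs : CoxeterSystem M W} {A : I → I → ℤ} {h : IsCartan M A} {p : ℕ}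
  {J : Type*} [Preorder J] {T : J → Subgroup Y} {n : I → Y} {X : J → (I → ℤ) → Subgroup Y}
  {F : Type*} [Field F] {xx : (I → ℤ) → F → Y} {χ : (I → ℤ) → Y → F}
  (H : Tow cs h p T n X) (C : Coords cs h (TL T) n (XL X) xx χ)
  {α : MulAut Y} {θ : (I → ℤ) ≃+ (I → ℤ)} (Fα : Fr cs h (TL T) (XL X) α θ)

/-- the data of this file -/
structure CDat (cs : CoxeterSystem M W) (h : IsCartan M A) (T : J → Subgroup Y) (X : J → (I → ℤ) → Subgroup Y)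
    (χ : (I → ℤ) → Y → F) (α : MulAut Y) (θ : (I → ℤ) ≃+ (I → ℤ)) (t : Y) : Prop where
  hG : GG cs h (TL T) (XL X) = ⊤
  hsep : ∀ a, IsRoot cs h a → ∃ s ∈ TL T, ∀ u ∈ XL X a, u * s = s * u → u = 1
  hA : ChAdd cs h (TL T) χ
  ht : t ∈ TL T
  hα : α t = t
  hpos : ∀ a ∈ Sx cs h χ t, 0 ≤ a → 0 ≤ θ a

variable {t : Y} (Dt : CDat cs h T X χ α θ t)

include H C Fα Dt

theorem PP0_le_fixC : PP0 cs h X χ α t ≤ fixC α t := fun _ hx => mem_fixC.2 ⟨hx.2, comm_Up C Dt.ht hx.1⟩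

theorem QQ0_le_fixC : QQ0 cs h X χ α t ≤ fixC α t := fun _ hx => mem_fixC.2 ⟨hx.2, comm_Un C Dt.ht hx.1⟩

theorem KK0_le_fixC : KK0 cs h X χ α t ≤ fixC α t :=
  sup_le (PP0_le_fixC H C Fα Dt) (QQ0_le_fixC H C Fα Dt)

/-- **`K0 ◁ C`.** -/
theorem KK0_normal : ((KK0 cs h X χ α t).subgroupOf (fixC α t)).Normal := by
  refine ⟨fun x hx c => ?_⟩
  rw [Subgroup.mem_subgroupOf] at hx ⊢
  obtain ⟨h1, h2⟩ := mem_fixC.1 c.2
  exact conj_KK0 H C Fα Dt.hG Dt.hsep Dt.hA Dt.ht Dt.hα Dt.hpos h2 h1 hx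

/-- the sign of `w θ a` -/
theorem neg_theta {w : W} {k : Y} (hk : Rp cs H.nsys w k) (hkt : k * t = t * k) (hαk : α k = k) {a : I → ℤ}
    (ha : a ∈ SP cs h χ t) (hw : rep cs h w a ≤ 0) : rep cs h w (θ a) ≤ 0 := by
  have har := ha.1.1
  have hθr : IsRoot cs h (θ a) := (Fα.root a).2 har
  rcases (hθr.act w).pos_or_neg with h0 | h0
  swap
  · exact h0
  exfalso
  -- a nontrivial element of `X (θ a)`
  have hy : xx a 1 ∈ XL X a := ((C.coord a har).mem _).2 ⟨1, rfl⟩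
  have hy1 : xx a 1 ≠ 1 := (C.coord a har).ne_one one_ne_zero
  have hwa : rep cs h w a ∈ SN cs h χ t := by
    refine ⟨⟨har.act w, ?_⟩, hw⟩
    have h1 := C.chi_rp H.nsys hk har Dt.ht
    have h2 : k * t * k⁻¹ = t := by rw [hkt]; group
    rw [h2] at h1
    rw [h1]
    exact ha.1.2
  have h1 : k * xx a 1 * k⁻¹ ∈ Un cs h X χ t := by
    have h2 : k * xx a 1 * k⁻¹ ∈ cj k (XL X a) := conj_mem_cj.2 hy
    rw [H.conj_rp hk har] at h2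
    exact RGD.le_Sup hwa h2
  have h2 := Un_le (alpha_Un C Fα Dt.ht Dt.hα Dt.hpos Dt.hA h1)
  rw [map_mul, map_mul, map_inv, hαk] at h2
  have h3 : k * α (xx a 1) * k⁻¹ ∈ RGD.Sup (XL X) (RGD.Pos cs h) := by
    have h4 : k * α (xx a 1) * k⁻¹ ∈ cj k (XL X (θ a)) := conj_mem_cj.2 ((Fα.map a har _).2 hy)
    rw [H.conj_rp hk hθr] at h4
    exact RGD.le_Sup (S := RGD.Pos cs h) ⟨hθr.act w, h0⟩ h4
  have h4 := eq_one_of_pos_neg H h3 h2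
  rw [conj_eq_one_iff, map_eq_one_iff α α.injective] at h4
  exact hy1 h4

/-- **The elements of `N ∩ C` normalising `P` lie over the component group.** -/
theorem mem_PP_of_normalizer (hne : ∀ Ψ : Set (I → ℤ), Ψ.Nonempty → Ψ ⊆ SP cs h χ t → (∀ a ∈ Ψ, θ a ∈ Ψ) →
      (∀ a ∈ Ψ, ∀ b ∈ Ψ, ∀ z, IsRoot cs h z → (∃ i j : ℕ, 0 < i ∧ 0 < j ∧ z = i • a + j • b) → z ∈ Ψ) →
      ∃ u ∈ RGD.Sup (XL X) Ψ, u ≠ 1 ∧ α u = u)
    {w : W} {k : Y} (hk : Rp cs H.nsys w k) (hkt : k * t = t * k) (hαk : α k = k)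
    (hn : ∀ x ∈ PP0 cs h X χ α t, k * x * k⁻¹ ∈ PP0 cs h X χ α t) : w ∈ PP cs h χ t := by
  have hchi : ∀ a, IsRoot cs h a → χ (rep cs h w a) t = χ a t := by
    intro a har
    have h1 := C.chi_rp H.nsys hk har Dt.ht
    have h2 : k * t * k⁻¹ = t := by rw [hkt]; group
    rwa [h2] at h1
  refine mem_PP.2 ⟨hchi, fun a ha ha0 => ?_⟩
  rcases (ha.1.act w).pos_or_neg with h0 | h0
  · exact h0
  exfalso
  obtain ⟨u, hu, hu1, hαu⟩ := hne {a | a ∈ SP cs h χ t ∧ rep cs h w a ≤ 0} ⟨a, ⟨ha, ha0⟩, h0⟩ (fun a ha => ha.1)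
    (fun a ha => ⟨⟨(Fα.mem_Sx C Dt.ht Dt.hα a).2 ha.1.1, Dt.hpos a ha.1.1 ha.1.2⟩,
      neg_theta H C Fα Dt hk hkt hαk ha.1 ha.2⟩)
    (by
      rintro a ha b hb z hz ⟨i, j, hi, hj, rfl⟩
      refine ⟨⟨⟨hz, ?_⟩, add_nonneg (nsmul_nonneg ha.1.2 i) (nsmul_nonneg hb.1.2 j)⟩, ?_⟩
      · obtain ⟨φ, h0, hadd, hφ⟩ := Dt.hA t Dt.ht
        have hm : ∀ (i : ℕ) (x : I → ℤ), φ (i • x) = φ x ^ i := by
          intro i x
          induction i with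
          | zero => rw [zero_smul, pow_zero, h0]
          | succ i ih => rw [succ_nsmul, hadd, ih, pow_succ]
        rw [hφ _ hz, hadd, hm, hm, ← hφ a ha.1.1.1, ← hφ b hb.1.1.1, ha.1.1.2, hb.1.1.2, one_pow, one_pow, one_mul]
      · rw [map_add, map_nsmul, map_nsmul]
        exact add_nonpos (nsmul_nonpos ha.2 i) (nsmul_nonpos hb.2 j))
  have huP : u ∈ PP0 cs h X χ α t := ⟨RGD.Sup_mono (S := {a | a ∈ SP cs h χ t ∧ rep cs h w a ≤ 0})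
    (S' := SP cs h χ t) (fun a ha => ha.1) hu, hαu⟩
  have h1 := Up_le (hn u huP).1
  have h2 : k * u * k⁻¹ ∈ RGD.Sup (XL X) (Neg cs h) :=
    conj_SupL H hk (S' := Neg cs h) (fun x hx => hx.1.1.1) (fun x hx => ⟨hx.1.1.1.act w, hx.2⟩) hu
  have h3 := eq_one_of_pos_neg H h1 h2
  rw [conj_eq_one_iff] at h3
  exact hu1 h3

/-- **Frattini.** -/
theorem frattini (hne : ∀ Ψ : Set (I → ℤ), Ψ.Nonempty → Ψ ⊆ SP cs h χ t → (∀ a ∈ Ψ, θ a ∈ Ψ) →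
      (∀ a ∈ Ψ, ∀ b ∈ Ψ, ∀ z, IsRoot cs h z → (∃ i j : ℕ, 0 < i ∧ 0 < j ∧ z = i • a + j • b) → z ∈ Ψ) →
      ∃ u ∈ RGD.Sup (XL X) Ψ, u ≠ 1 ∧ α u = u)
    {q : ℕ} [Fact q.Prime] [Finite ↥(fixC α t)] (P : Sylow q ↥(fixC α t))
    (hP : (P : Subgroup ↥(fixC α t)) = (PP0 cs h X χ α t).subgroupOf (fixC α t)) {c : Y} (hc : c ∈ fixC α t) :
    ∃ κ ∈ KK0 cs h X χ α t, ∃ w ∈ PP cs h χ t, ∃ k, Rp cs H.nsys w k ∧ k * t = t * k ∧ α k = k ∧ c = κ * k := by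
  have hN := KK0_normal H C Fα Dt
  have hPK : (P : Subgroup ↥(fixC α t)) ≤ (KK0 cs h X χ α t).subgroupOf (fixC α t) := by
    rw [hP]
    intro x hx
    rw [Subgroup.mem_subgroupOf] at hx ⊢
    exact Subgroup.mem_sup_left hx
  have h1 := P.normalizer_sup_eq_top' hPK
  have h2 : (⟨c, hc⟩ : ↥(fixC α t)) ∈ (KK0 cs h X χ α t).subgroupOf (fixC α t) ⊔
      Subgroup.normalizer ((P : Subgroup ↥(fixC α t)) : Set ↥(fixC α t)) := by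
    rw [sup_comm]
    have h3 : (⟨c, hc⟩ : ↥(fixC α t)) ∈ (⊤ : Subgroup ↥(fixC α t)) := Subgroup.mem_top _
    rw [← h1] at h3
    exact h3
  rw [← SetLike.mem_coe, Subgroup.normal_mul] at h2
  obtain ⟨κ, hκ, c', hc', e⟩ := h2
  have e' : (κ : Y) * c' = c := congrArg Subtype.val e
  obtain ⟨h3, h4⟩ := mem_fixC.1 c'.2
  obtain ⟨w, u, hu, hαu, k, hk, hkt, hαk, v, hv, hαv, -, e1⟩ :=
    form_fix H C Fα Dt.hG Dt.hsep Dt.hA Dt.ht Dt.hα Dt.hpos h4 h3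
  have hu' : u ∈ PP0 cs h X χ α t := ⟨hu, hαu⟩
  have hv' : v ∈ PP0 cs h X χ α t := ⟨hv, hαv⟩
  have hcn : ∀ x ∈ PP0 cs h X χ α t, (c' : Y) * x * (c' : Y)⁻¹ ∈ PP0 cs h X χ α t := by
    intro x hx
    have h5 : (⟨x, PP0_le_fixC H C Fα Dt hx⟩ : ↥(fixC α t)) ∈ (P : Subgroup ↥(fixC α t)) := by
      rw [hP]; exact hx
    have h6 := (Subgroup.mem_normalizer_iff.1 hc' _).1 h5
    rw [hP] at h6
    exact h6
  have hkn : ∀ x ∈ PP0 cs h X χ α t, k * x * k⁻¹ ∈ PP0 cs h X χ α t := by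
    intro x hx
    have h5 := hcn (v⁻¹ * x * v) (mul_mem (mul_mem (inv_mem hv') hx) hv')
    have e2 : k * x * k⁻¹ = u⁻¹ * ((c' : Y) * (v⁻¹ * x * v) * (c' : Y)⁻¹) * u := by rw [e1]; group
    rw [e2]
    exact mul_mem (mul_mem (inv_mem hu') h5) hu'
  have hw := mem_PP_of_normalizer H C Fα Dt hne hk hkt hαk hkn
  have hκ' : (κ : Y) ∈ KK0 cs h X χ α t := hκ
  have hkK : u * (k * v * k⁻¹) ∈ KK0 cs h X χ α t :=
    mul_mem (Subgroup.mem_sup_left hu') (Subgroup.mem_sup_left (hkn v hv'))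
  refine ⟨κ * (u * (k * v * k⁻¹)), mul_mem hκ' hkK, w, hw, k, hk, hkt, hαk, ?_⟩
  rw [← e', e1]
  group

/-- **The powers.** -/
theorem pow_mem_KT (hne : ∀ Ψ : Set (I → ℤ), Ψ.Nonempty → Ψ ⊆ SP cs h χ t → (∀ a ∈ Ψ, θ a ∈ Ψ) →
      (∀ a ∈ Ψ, ∀ b ∈ Ψ, ∀ z, IsRoot cs h z → (∃ i j : ℕ, 0 < i ∧ 0 < j ∧ z = i • a + j • b) → z ∈ Ψ) →
      ∃ u ∈ RGD.Sup (XL X) Ψ, u ≠ 1 ∧ α u = u)
    {q : ℕ} [Fact q.Prime] [Finite ↥(fixC α t)] (P : Sylow q ↥(fixC α t))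
    (hP : (P : Subgroup ↥(fixC α t)) = (PP0 cs h X χ α t).subgroupOf (fixC α t)) {c : Y} (hc : c ∈ fixC α t) :
    c ^ Nat.card ↥(PP cs h χ t) ∈ KK0 cs h X χ α t ⊔ (TL T ⊓ Cfsg.fixedSubgroup α) := by
  obtain ⟨κ, hκ, w, hw, k, hk, hkt, hαk, rfl⟩ := frattini H C Fα Dt hne P hP hc
  -- modulo `K0`
  have h1 : ∀ m : ℕ, ∃ κ' ∈ KK0 cs h X χ α t, (κ * k) ^ m = κ' * k ^ m := by
    intro m
    induction m with
    | zero => exact ⟨1, one_mem _, by rw [pow_zero, pow_zero, mul_one]⟩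
    | succ m ih =>
      obtain ⟨κ', hκ', e⟩ := ih
      refine ⟨κ * (k * κ' * k⁻¹), mul_mem hκ
        (conj_KK0_rp H C Fα Dt.hA Dt.ht Dt.hα Dt.hpos hk hkt hαk hκ'), ?_⟩
      rw [pow_succ', e, pow_succ']
      group
  obtain ⟨κ', hκ', e⟩ := h1 (Nat.card ↥(PP cs h χ t))
  have h2 : ∀ m : ℕ, Rp cs H.nsys (w ^ m) (k ^ m) := by
    intro m
    induction m with
    | zero => rw [pow_zero, pow_zero]; exact rp_one
    | succ m ih => rw [pow_succ, pow_succ]; exact ih.mul hk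
  have h3 : w ^ Nat.card ↥(PP cs h χ t) = 1 := by
    have h4 : (⟨w, hw⟩ : ↥(PP cs h χ t)) ^ Nat.card ↥(PP cs h χ t) = 1 := pow_card_eq_one'
    exact congrArg Subtype.val h4
  have h5 := h2 (Nat.card ↥(PP cs h χ t))
  rw [h3] at h5
  rw [e]
  refine mul_mem (Subgroup.mem_sup_left hκ') (Subgroup.mem_sup_right ⟨h5.mem_of_one, ?_⟩)
  have h6 : α (k ^ Nat.card ↥(PP cs h χ t)) = k ^ Nat.card ↥(PP cs h χ t) := by rw [map_pow, hαk]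
  exact h6

/-- **The elements of order prime to the order of the component group.** -/
theorem mem_of_coprime (hne : ∀ Ψ : Set (I → ℤ), Ψ.Nonempty → Ψ ⊆ SP cs h χ t → (∀ a ∈ Ψ, θ a ∈ Ψ) →
      (∀ a ∈ Ψ, ∀ b ∈ Ψ, ∀ z, IsRoot cs h z → (∃ i j : ℕ, 0 < i ∧ 0 < j ∧ z = i • a + j • b) → z ∈ Ψ) →
      ∃ u ∈ RGD.Sup (XL X) Ψ, u ≠ 1 ∧ α u = u)
    {q : ℕ} [Fact q.Prime] [Finite ↥(fixC α t)] (P : Sylow q ↥(fixC α t))
    (hP : (P : Subgroup ↥(fixC α t)) = (PP0 cs h X χ α t).subgroupOf (fixC α t)) {c : Y} (hc : c ∈ fixC α t)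
    {d : ℕ} (hd : d.Coprime (Nat.card ↥(PP cs h χ t))) (hcd : c ^ d = 1) :
    c ∈ KK0 cs h X χ α t ⊔ (TL T ⊓ Cfsg.fixedSubgroup α) := by
  have h1 := pow_mem_KT H C Fα Dt hne P hP hc
  have h2 : c ∈ Subgroup.zpowers (c ^ Nat.card ↥(PP cs h χ t)) := by
    have h3 : (orderOf c).Coprime (Nat.card ↥(PP cs h χ t)) := hd.coprime_dvd_left (orderOf_dvd_of_pow_eq_one hcd)
    rw [Subgroup.mem_zpowers_iff]
    obtain ⟨m, hm⟩ := exists_pow_eq_self_of_coprime h3.symm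
    exact ⟨m, by rw [zpow_natCast]; exact hm⟩
  exact (Subgroup.zpowers_le.2 h1) h2

end Cfsg.Agent.H441.RG
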