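import Cfsg.Agent.H441.RG.CentS
import Cfsg.Agent.H169.RG.Toral
import Cfsg.Agent.H461.E2.Fix

/-!
# S3509, exceptional groups: F2 and F3 in `D.group k` and in the toral form (helper441)

`DFr` : a frame automorphism `τ` (for `g`) of `D.group k`, `t ∈ TT`, `τ t = t`, `g` preserves the positive roots trivial on `t`,
`t` of order prime to `r`. `PK, QK` : fixed points of `τ` in the groups generated by the positive / negative root groups trivial
on `t`, `TK = TT ∩ Fix τ`, `C = fixC τ t`.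

* `sylP`, `sylQ` : `PK`, `QK` are Sylow `r`-subgroups of `C`; `PK_inf_QK = 1`; `pCore_eq_bot` : `O_r(C) = 1`;
* `KK_normal` : `⟨PK, QK⟩ ◁ C`;
* `formC` : Bruhat form of the elements of `C`; `frattiniC` : `c = κ k`, `κ ∈ ⟨PK, QK⟩`, `k ∈ C` over the component group;
* `mem_of_coprimeC` : the elements of order prime to the order of `t` lie in `⟨PK, QK, TK⟩`;
* `pCore_torForm` : `O_r(fixC m.σ s) = 1` for every `r'`-element `s`.
-/

set_option autoImplicit false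
set_option linter.unusedSectionVars false

namespace Cfsg.Agent.H441.RG

open CoxeterSystem Cfsg Cfsg.Lie Cfsg.Lie.ChevalleyDatum
open Cfsg.Agent.ChevalleyStructure Cfsg.Agent.ChevalleyStructure.Elts Cfsg.Agent.ChevalleyStructure.CoxeterGeom
  Cfsg.Agent.ChevalleyStructure.CoxeterGeomTypes Cfsg.Agent.ChevalleyStructure.NPerm
open Cfsg.Agent.Tits.Roots Cfsg.Agent.Tits.Core Cfsg.Agent.Nodes Cfsg.Agent.Nodes.Reps Cfsg.Agent.Nodes.BNOf
  Cfsg.Agent.Nodes.RGDChev Cfsg.Agent.Nodes.Bruhat Cfsg.Agent.Nodes.NormalForm Cfsg.Agent.Nodes.OppDec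
open Cfsg.Agent.KFacts.RgdField Cfsg.Agent.KFacts.RgdChevCoord
open Cfsg.Agent.BpExc Cfsg.Agent.BpExc.TorCent Cfsg.Agent.BpExc.TorChev Cfsg.Agent.BpExc.Tow
  Cfsg.Agent.BpExc.TowChev Cfsg.Agent.BpExc.Fr Cfsg.Agent.BpExc.Pair Cfsg.Agent.BpExc.LangFr Cfsg.Agent.GpExc.Field
  Cfsg.Agent.BpExc.NChev
open Cfsg.Agent.H28.RG Cfsg.Agent.H169.RG Cfsg.Agent.H469.Exc Cfsg.Agent.H316.U6

universe u v

section

variable {D : ChevalleyDatum} {l : ℕ} {M : CoxeterMatrix (Fin l)} {hp : IsType D l M} {k : Type u} [Field k]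
  {W : Type v} [Group W] {cs : CoxeterSystem M W} {r : ℕ} [Fact r.Prime] [CharP k r]

/-- The data. -/
structure DFr (hp : IsType D l M) (cs : CoxeterSystem M W) (r e : ℕ) [Fact r.Prime] [CharP k r]
    (τ : MulAut ↥(D.group k)) (g : (Fin l → ℤ) ≃+ (Fin l → ℤ)) (t : ↥(D.group k)) : Prop where
  he : 0 < e
  frob : IsFrob r e τ
  fr : Fr cs hp.isCartan (TT D k) (XX D l k) τ g
  mem : t ∈ TT D k
  fix : τ t = t
  pos : ∀ a ∈ Sx cs hp.isCartan (ch hp) t, 0 ≤ a → 0 ≤ g a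
  ord : (orderOf t).Coprime r

/-- the fixed points in the positive part -/
def PK (hp : IsType D l M) (cs : CoxeterSystem M W) (τ : MulAut ↥(D.group k)) (t : ↥(D.group k)) :
    Subgroup ↥(D.group k) := RGD.Sup (XX D l k) (SP cs hp.isCartan (ch hp) t) ⊓ fixedSubgroup τ

/-- the fixed points in the negative part -/
def QK (hp : IsType D l M) (cs : CoxeterSystem M W) (τ : MulAut ↥(D.group k)) (t : ↥(D.group k)) :
    Subgroup ↥(D.group k) := RGD.Sup (XX D l k) (SN cs hp.isCartan (ch hp) t) ⊓ fixedSubgroup τ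

/-- the fixed points in the torus -/
def TK (τ : MulAut ↥(D.group k)) : Subgroup ↥(D.group k) := TT D k ⊓ fixedSubgroup τ

theorem PP0_eq (hk : LocFin k) (τ : MulAut ↥(D.group k)) (t : ↥(D.group k)) :
    PP0 cs hp.isCartan (Xj hp (k := k)) (ch hp) τ t = PK hp cs τ t := by
  unfold PP0 PK Up
  rw [XL_eq hp hk]

theorem QQ0_eq (hk : LocFin k) (τ : MulAut ↥(D.group k)) (t : ↥(D.group k)) :
    QQ0 cs hp.isCartan (Xj hp (k := k)) (ch hp) τ t = QK hp cs τ t := by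
  unfold QQ0 QK Un
  rw [XL_eq hp hk]

theorem KK0_eq (hk : LocFin k) (τ : MulAut ↥(D.group k)) (t : ↥(D.group k)) :
    KK0 cs hp.isCartan (Xj hp (k := k)) (ch hp) τ t = PK hp cs τ t ⊔ QK hp cs τ t := by
  unfold KK0
  rw [PP0_eq hk, QQ0_eq hk]

/-- representatives -/
theorem rp_iff (hk : LocFin k) {w : W} {y : ↥(D.group k)} :
    Rp cs (tow (k := k) hp cs hk r).nsys w y ↔ Rp cs (nsysTT hp cs hk r) w y := by
  have key : ∀ (T T' : Subgroup ↥(D.group k)) (h1 : NSys M T (nc hp k)) (h2 : NSys M T' (nc hp k)) (_ : T = T'),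
      Rp cs h1 w y ↔ Rp cs h2 w y := by
    intro T T' h1 h2 h3
    subst h3
    exact Iff.rfl
  exact key _ _ _ _ (TL_eq hp hk)

theorem coordsTL (hk : LocFin k) (r : ℕ) [Fact r.Prime] [CharP k r] :
    Coords cs hp.isCartan (TL (Tj hp (k := k))) (nc hp k) (XL (Xj hp (k := k))) (xc hp) (ch hp) := by
  rw [TL_eq hp hk, XL_eq hp hk]
  exact coordsL (k := k) hp cs hk r

variable {e : ℕ} {τ : MulAut ↥(D.group k)} {g : (Fin l → ℤ) ≃+ (Fin l → ℤ)} {t : ↥(D.group k)}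

theorem DFr.frTL (d : DFr hp cs r e τ g t) (hk : LocFin k) :
    Fr cs hp.isCartan (TL (Tj hp (k := k))) (XL (Xj hp (k := k))) τ g := by
  rw [TL_eq hp hk, XL_eq hp hk]
  exact d.fr

theorem DFr.cdat [IsAlgClosed k] (d : DFr hp cs r e τ g t) (hk : LocFin k) :
    CDat cs hp.isCartan (Tj hp (k := k)) (Xj hp (k := k)) (ch hp) τ g t where
  hG := GG_eq_top (k := k) hp cs hk
  hsep := by
    rw [TL_eq hp hk, XL_eq hp hk]
    exact fun a ha => sep hp cs hk r ha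
  hA := by
    rw [TL_eq hp hk]
    exact chAddL (k := k) hp cs hk r
  ht := by rw [TL_eq hp hk]; exact d.mem
  hα := d.fix
  hpos := d.pos

/-- a nontrivial group of fixed points -/
theorem exists_fixed_ne [IsAlgClosed k] (hk : LocFin k) (he : 0 < e) (hτ : IsFrob r e τ)
    (F : Fr cs hp.isCartan (TT D k) (XX D l k) τ g) {Ψ : Set (Fin l → ℤ)} (hne : Ψ.Nonempty)
    (hP : Ψ ⊆ RGD.Pos cs hp.isCartan) (hΨ : H461.E2.Sup.ZCl cs hp.isCartan Ψ) (hg : ∀ a ∈ Ψ, g a ∈ Ψ) :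
    ∃ u ∈ RGD.Sup (XX D l k) Ψ, u ≠ 1 ∧ τ u = u := by
  have := finite_W hp cs
  have h1 := H461.E2.Fix.card_fix (hp := hp) hk r he hτ F hP hΨ hg
  have hfin : Ψ.Finite := (RGD.finite_roots (cs := cs) (h := hp.isCartan)).subset fun a ha => (hP ha).1
  by_contra hcon
  push Not at hcon
  have h2 : RGD.Sup (XX D l k) Ψ ⊓ fixedSubgroup τ = ⊥ := by
    rw [eq_bot_iff]
    rintro u ⟨hu, hτu⟩
    by_contra hu1
    exact hcon u hu hu1 hτu
  rw [h2, Subgroup.card_bot] at h1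
  have h3 : 1 < (r ^ e) ^ Ψ.ncard := Nat.one_lt_pow ((Set.ncard_pos hfin).2 hne).ne'
    (Nat.one_lt_pow he.ne' (Fact.out : r.Prime).one_lt)
  omega

theorem DFr.hne [IsAlgClosed k] (d : DFr hp cs r e τ g t) (hk : LocFin k) :
    HNe cs hp.isCartan (Xj hp (k := k)) (ch hp) τ g t := by
  intro Ψ hne hP hg hcl
  rw [XL_eq hp hk]
  exact exists_fixed_ne (hp := hp) hk d.he d.frob d.fr hne (fun a ha => ⟨(hP ha).1.1, (hP ha).2⟩) hcl hg

/-- the characters of `t` -/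
theorem DFr.chi_pow (d : DFr hp cs r e τ g t) (hk : LocFin k) {m : ℕ} (hm : t ^ m = 1) (a : Fin l → ℤ)
    (ha : IsRoot cs hp.isCartan a) : ch hp a t ^ m = 1 := by
  have C := coordsL (k := k) hp cs hk r
  have h0 : ch hp a (1 : ↥(D.group k)) = 1 := by
    have h1 := (C.coord a ha).chi_mul (one_mem (TT D k)) (one_mem _)
    rw [mul_one] at h1
    exact (mul_eq_left₀ ((C.coord a ha).chi_ne_zero (one_mem _))).1 h1.symm
  have h1 : ∀ m : ℕ, ch hp a (t ^ m) = ch hp a t ^ m := by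
    intro m
    induction m with
    | zero => rw [pow_zero, pow_zero, h0]
    | succ m ih => rw [pow_succ, pow_succ, (C.coord a ha).chi_mul (pow_mem d.mem m) d.mem, ih]
  rw [← h1, hm, h0]

/-- the primes dividing the order of the component group divide the order of `t` -/
theorem DFr.prime_dvd [Finite W] (d : DFr hp cs r e τ g t) (hk : LocFin k) {q : ℕ} (hq : q.Prime)
    (hqd : q ∣ Nat.card ↥(PP cs hp.isCartan (ch hp) t)) : q ∣ orderOf t := by
  exact prime_dvd_PP (chAddL (k := k) hp cs hk r) d.mem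
    (d.chi_pow hk (pow_orderOf_eq_one t)) hq hqd

theorem DFr.coprime_PP [Finite W] (d : DFr hp cs r e τ g t) (hk : LocFin k) {m : ℕ} (hm : m.Coprime (orderOf t)) :
    m.Coprime (Nat.card ↥(PP cs hp.isCartan (ch hp) t)) := by
  rw [Nat.coprime_iff_gcd_eq_one]
  by_contra hcon
  obtain ⟨q, hq, hqd⟩ := Nat.exists_prime_and_dvd hcon
  have h1 := d.prime_dvd hk hq (hqd.trans (Nat.gcd_dvd_right _ _))
  have h2 := Nat.dvd_gcd (hqd.trans (Nat.gcd_dvd_left _ _)) h1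
  rw [hm] at h2
  exact hq.one_lt.ne' (Nat.dvd_one.1 h2)

/-- **F2: `PK` is a Sylow subgroup.** -/
theorem DFr.sylP [IsAlgClosed k] (d : DFr hp cs r e τ g t) (hk : LocFin k) [Finite ↥(fixC τ t)] :
    ∃ P : Sylow r ↥(fixC τ t), (P : Subgroup ↥(fixC τ t)) = (PK hp cs τ t).subgroupOf (fixC τ t) := by
  have := finite_W hp cs
  rw [← PP0_eq hk]
  exact exists_sylow_P (tow (k := k) hp cs hk r) (coordsTL hk r) (d.frTL hk) (d.cdat hk) (d.hne hk)
    (d.coprime_PP hk d.ord.symm).symm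

theorem DFr.PK_le [IsAlgClosed k] (d : DFr hp cs r e τ g t) (hk : LocFin k) : PK hp cs τ t ≤ fixC τ t := by
  have := finite_W hp cs
  rw [← PP0_eq hk]
  exact PP0_le_fixC (tow (k := k) hp cs hk r) (coordsTL hk r) (d.frTL hk) (d.cdat hk)

theorem DFr.QK_le [IsAlgClosed k] (d : DFr hp cs r e τ g t) (hk : LocFin k) : QK hp cs τ t ≤ fixC τ t := by
  have := finite_W hp cs
  rw [← QQ0_eq hk]
  exact QQ0_le_fixC (tow (k := k) hp cs hk r) (coordsTL hk r) (d.frTL hk) (d.cdat hk)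

theorem DFr.TK_le (d : DFr hp cs r e τ g t) : TK τ ≤ fixC τ t := fun _ hx =>
  mem_fixC.2 ⟨hx.2, TT_comm hp _ hx.1 t d.mem⟩

theorem DFr.PK_inf_QK (_d : DFr hp cs r e τ g t) (hk : LocFin k) : PK hp cs τ t ⊓ QK hp cs τ t = ⊥ := by
  have := finite_W hp cs
  rw [← PP0_eq hk, ← QQ0_eq hk, eq_bot_iff]
  rintro x ⟨h1, h2⟩
  exact Subgroup.mem_bot.2 (eq_one_of_pos_neg (tow (k := k) hp cs hk r) (Up_le h1.1) (Un_le h2.1))

/-- **F3: `⟨PK, QK⟩ ◁ C`.** -/
theorem DFr.KK_normal [IsAlgClosed k] (d : DFr hp cs r e τ g t) (hk : LocFin k) :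
    ((PK hp cs τ t ⊔ QK hp cs τ t).subgroupOf (fixC τ t)).Normal := by
  have := finite_W hp cs
  rw [← KK0_eq hk]
  exact KK0_normal (tow (k := k) hp cs hk r) (coordsTL hk r) (d.frTL hk) (d.cdat hk)

/-- **The Bruhat form of the elements of `C`.** -/
theorem DFr.formC [IsAlgClosed k] (d : DFr hp cs r e τ g t) (hk : LocFin k) {c : ↥(D.group k)}
    (hc : c ∈ fixC τ t) : ∃ w, ∃ u ∈ PK hp cs τ t, ∃ y ∈ fixC τ t, Rp cs (nsysTT hp cs hk r) w y ∧
      ∃ v ∈ PK hp cs τ t, y * v * y⁻¹ ∈ QK hp cs τ t ∧ c = u * y * v := by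
  have := finite_W hp cs
  obtain ⟨h1, h2⟩ := mem_fixC.1 hc
  have Dt : CDat cs hp.isCartan (Tj hp (k := k)) (Xj hp (k := k)) (ch hp) τ g t := d.cdat hk
  obtain ⟨w, u, hu, hαu, y, hy, hyt, hαy, v, hv, hαv, hyv, e1⟩ := form_fix (tow (k := k) hp cs hk r)
    (coordsTL hk r) (d.frTL hk) Dt.hG Dt.hsep Dt.hA Dt.ht Dt.hα Dt.hpos h2 h1
  refine ⟨w, u, by rw [← PP0_eq hk]; exact ⟨hu, hαu⟩, y, mem_fixC.2 ⟨hαy, hyt⟩, (rp_iff hk).1 hy, v,
    by rw [← PP0_eq hk]; exact ⟨hv, hαv⟩, ?_, e1⟩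
  rw [← QQ0_eq hk]
  have h3 : τ (y * v * y⁻¹) = y * v * y⁻¹ := by rw [map_mul, map_mul, map_inv, hαy, hαv]
  exact ⟨hyv, h3⟩

/-- **F3: the elements of `C` modulo `⟨PK, QK⟩`.** -/
theorem DFr.frattiniC [IsAlgClosed k] [Finite W] (d : DFr hp cs r e τ g t) (hk : LocFin k) [Finite ↥(fixC τ t)]
    {c : ↥(D.group k)} (hc : c ∈ fixC τ t) : ∃ κ ∈ PK hp cs τ t ⊔ QK hp cs τ t,
      ∃ w ∈ PP cs hp.isCartan (ch hp) t, ∃ y ∈ fixC τ t, Rp cs (nsysTT hp cs hk r) w y ∧ c = κ * y := by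
  obtain ⟨P, hP⟩ := d.sylP hk
  rw [← PP0_eq hk] at hP
  obtain ⟨κ, hκ, w, hw, y, hy, hyt, hαy, e1⟩ := frattini (tow (k := k) hp cs hk r) (coordsTL hk r) (d.frTL hk)
    (d.cdat hk) (d.hne hk) P hP hc
  rw [KK0_eq hk] at hκ
  exact ⟨κ, hκ, w, hw, y, mem_fixC.2 ⟨hαy, hyt⟩, (rp_iff hk).1 hy, e1⟩

/-- **F3: the elements of order prime to the order of `t`.** -/
theorem DFr.mem_of_coprimeC [IsAlgClosed k] (d : DFr hp cs r e τ g t) (hk : LocFin k) [Finite ↥(fixC τ t)]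
    {c : ↥(D.group k)} (hc : c ∈ fixC τ t) {m : ℕ} (hm : m.Coprime (orderOf t)) (hcm : c ^ m = 1) :
    c ∈ PK hp cs τ t ⊔ QK hp cs τ t ⊔ TK τ := by
  have := finite_W hp cs
  obtain ⟨P, hP⟩ := d.sylP hk
  rw [← PP0_eq hk] at hP
  have h1 := mem_of_coprime (tow (k := k) hp cs hk r) (coordsTL hk r) (d.frTL hk)
    (d.cdat hk) (d.hne hk) P hP hc (d.coprime_PP hk hm) hcm
  rw [KK0_eq hk, TL_eq hp hk] at h1
  exact h1

/-- `TK` normalises `PK` -/
theorem DFr.TK_PK (_d : DFr hp cs r e τ g t) (hk : LocFin k) {s x : ↥(D.group k)} (hs : s ∈ TK τ)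
    (hx : x ∈ PK hp cs τ t) : s * x * s⁻¹ ∈ PK hp cs τ t := by
  have := finite_W hp cs
  have h1 := (tow (k := k) hp cs hk r).T_le_normalizer (S := SP cs hp.isCartan (ch hp) t) (fun x hx => hx.1.1)
    (by rw [TL_eq hp hk]; exact hs.1)
  rw [XL_eq hp hk] at h1
  have h2 : τ (s * x * s⁻¹) = s * x * s⁻¹ := by rw [map_mul, map_mul, map_inv, hs.2, hx.2]
  exact ⟨(Subgroup.mem_normalizer_iff.1 h1 x).1 hx.1, h2⟩

/-- `TK` normalises `QK` -/
theorem DFr.TK_QK (_d : DFr hp cs r e τ g t) (hk : LocFin k) {s x : ↥(D.group k)} (hs : s ∈ TK τ)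
    (hx : x ∈ QK hp cs τ t) : s * x * s⁻¹ ∈ QK hp cs τ t := by
  have := finite_W hp cs
  have h1 := (tow (k := k) hp cs hk r).T_le_normalizer (S := SN cs hp.isCartan (ch hp) t) (fun x hx => hx.1.1)
    (by rw [TL_eq hp hk]; exact hs.1)
  rw [XL_eq hp hk] at h1
  have h2 : τ (s * x * s⁻¹) = s * x * s⁻¹ := by rw [map_mul, map_mul, map_inv, hs.2, hx.2]
  exact ⟨(Subgroup.mem_normalizer_iff.1 h1 x).1 hx.1, h2⟩

/-! ### the negative side -/

/-- the opposite data -/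
theorem DFr.opp [IsAlgClosed k] (d : DFr hp cs r e τ g t) (hk : LocFin k) :
    ∃ (y : ↥(D.group k)) (g' : (Fin l → ℤ) ≃+ (Fin l → ℤ)),
      DFr hp cs r e (MulAut.conj y * τ * (MulAut.conj y)⁻¹) g' (y * t * y⁻¹) ∧
      ∀ x, x ∈ QK hp cs τ t ↔ y * x * y⁻¹ ∈ PK hp cs (MulAut.conj y * τ * (MulAut.conj y)⁻¹) (y * t * y⁻¹) := by
  have := finite_W hp cs
  have H := tow (k := k) hp cs hk r
  have C := coordsTL (hp := hp) (cs := cs) (k := k) hk r
  obtain ⟨w0, hw0⟩ := Cfsg.Agent.Nodes.Sys.exists_longest cs hp.isCartan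
  obtain ⟨y, -, hy⟩ := H.exists_rp w0⁻¹
  have hneg : ∀ x, IsRoot cs hp.isCartan x → x ≤ 0 → 0 ≤ rep cs hp.isCartan w0⁻¹ x := by
    intro x hx h0
    have h1 := hw0 (-x) hx.neg (neg_nonneg.2 h0)
    rwa [map_neg, neg_nonpos] at h1
  have hback : ∀ x, IsRoot cs hp.isCartan x → 0 ≤ x → rep cs hp.isCartan w0 x ≤ 0 := by
    intro x hx h0
    rcases (hx.act w0).pos_or_neg with h1 | h1
    · exfalso
      have h2 := hw0 _ (hx.act w0) h1
      rw [← rep_mul_apply, inv_mul_cancel, map_one, Module.End.one_apply] at h2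
      exact hx.not_pos_neg h0 h2
    · exact h1
  have Fy : Fr cs hp.isCartan (TT D k) (XX D l k) (MulAut.conj y) (repAut cs hp.isCartan w0⁻¹) := by
    have h1 := Fr.conj H hy
    rwa [TL_eq hp hk, XL_eq hp hk] at h1
  have F' := (Fy.mul d.fr).mul Fy.inv
  have hty : y * t * y⁻¹ ∈ TT D k := (Fy.tor t).2 d.mem
  have hSx : ∀ a, IsRoot cs hp.isCartan a → (rep cs hp.isCartan w0⁻¹ a ∈ Sx cs hp.isCartan (ch hp) (y * t * y⁻¹) ↔
      a ∈ Sx cs hp.isCartan (ch hp) t) := by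
    intro a ha
    have h1 := C.chi_rp H.nsys hy ha (t := t) (by rw [TL_eq hp hk]; exact d.mem)
    constructor
    · rintro ⟨-, h2⟩
      exact ⟨ha, by rw [← h1]; exact h2⟩
    · rintro ⟨-, h2⟩
      exact ⟨ha.act _, by rw [h1]; exact h2⟩
  have hrep : ∀ a, rep cs hp.isCartan w0⁻¹ (rep cs hp.isCartan w0 a) = a := fun a => by
    rw [← rep_mul_apply, inv_mul_cancel, map_one, Module.End.one_apply]
  have hrep' : ∀ a, rep cs hp.isCartan w0 (rep cs hp.isCartan w0⁻¹ a) = a := fun a => by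
    rw [← rep_mul_apply, mul_inv_cancel, map_one, Module.End.one_apply]
  have Dt : CDat cs hp.isCartan (Tj hp (k := k)) (Xj hp (k := k)) (ch hp) τ g t := d.cdat hk
  have hτ' : ∀ x, (MulAut.conj y * τ * (MulAut.conj y)⁻¹) (y * x * y⁻¹) = y * τ x * y⁻¹ := by
    intro x
    have e1 : (MulAut.conj y)⁻¹ (y * x * y⁻¹) = x := by
      rw [← MulAut.conj_apply, MulAut.inv_apply_self]
    rw [MulAut.mul_apply, MulAut.mul_apply, e1, MulAut.conj_apply]
  refine ⟨y, _, ⟨d.he, ?_, F', hty, ?_, ?_, ?_⟩, ?_⟩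
  · have h1 := ((IsFrob.conj (p := r) y).mul d.frob).mul (IsFrob.conj (p := r) y⁻¹)
    rw [zero_add, add_zero, map_inv] at h1
    exact h1
  · rw [hτ', d.fix]
  · intro a ha ha0
    have h1 : rep cs hp.isCartan w0 a ∈ Sx cs hp.isCartan (ch hp) t := by
      rw [← hSx _ (ha.1.act w0), hrep]
      exact ha
    have h2 : (repAut cs hp.isCartan w0⁻¹).symm a = rep cs hp.isCartan w0 a := by
      rw [AddEquiv.symm_apply_eq, repAut_apply, hrep]
    have h3 : g (rep cs hp.isCartan w0 a) ≤ 0 :=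
      theta_neg (coordsTL hk r) Dt.ht d.pos Dt.hA h1 (hback a ha.1 ha0)
    show 0 ≤ repAut cs hp.isCartan w0⁻¹ (g ((repAut cs hp.isCartan w0⁻¹).symm a))
    rw [h2, repAut_apply]
    exact hneg _ ((d.fr.root _).2 h1.1) h3
  · have h1 : orderOf (y * t * y⁻¹) = orderOf t := by
      rw [← MulAut.conj_apply]
      exact orderOf_injective (MulAut.conj y).toMonoidHom (MulAut.conj y).injective t
    rw [h1]
    exact d.ord
  · intro x
    have hS : y * x * y⁻¹ ∈ RGD.Sup (XX D l k) (SP cs hp.isCartan (ch hp) (y * t * y⁻¹)) ↔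
        x ∈ RGD.Sup (XX D l k) (SN cs hp.isCartan (ch hp) t) := by
      rw [← XL_eq hp hk]
      constructor
      · intro hx
        have h1 := conj_SupL H hy.inv (S := SP cs hp.isCartan (ch hp) (y * t * y⁻¹))
          (S' := SN cs hp.isCartan (ch hp) t) (fun a ha => ha.1.1) (fun a ha => by
            rw [inv_inv]
            refine ⟨?_, hback a ha.1.1 ha.2⟩
            rw [← hSx _ (ha.1.1.act w0), hrep]
            exact ha.1) hx
        have e1 : y⁻¹ * (y * x * y⁻¹) * y⁻¹⁻¹ = x := by group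
        rwa [e1] at h1
      · intro hx
        exact conj_SupL H hy (S := SN cs hp.isCartan (ch hp) t)
          (S' := SP cs hp.isCartan (ch hp) (y * t * y⁻¹)) (fun a ha => ha.1.1) (fun a ha =>
            ⟨(hSx a ha.1.1).2 ha.1, hneg a ha.1.1 ha.2⟩) hx
    constructor
    · rintro ⟨h1, h2⟩
      refine ⟨hS.2 h1, ?_⟩
      have h3 : τ x = x := h2
      show (MulAut.conj y * τ * (MulAut.conj y)⁻¹) (y * x * y⁻¹) = y * x * y⁻¹
      rw [hτ', h3]
    · rintro ⟨h1, h2⟩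
      refine ⟨hS.1 h1, ?_⟩
      have h3 : (MulAut.conj y * τ * (MulAut.conj y)⁻¹) (y * x * y⁻¹) = y * x * y⁻¹ := h2
      rw [hτ'] at h3
      exact mul_left_cancel (mul_right_cancel h3)

/-- **F2: `QK` is a Sylow subgroup.** -/
theorem DFr.sylQ [IsAlgClosed k] (d : DFr hp cs r e τ g t) (hk : LocFin k) [Finite ↥(fixC τ t)] :
    ∃ Q : Sylow r ↥(fixC τ t), (Q : Subgroup ↥(fixC τ t)) = (QK hp cs τ t).subgroupOf (fixC τ t) := by
  obtain ⟨y, g', d', hQ⟩ := d.opp hk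
  set τ' := MulAut.conj y * τ * (MulAut.conj y)⁻¹ with hτ'def
  have hτ' : ∀ x, τ' (y * x * y⁻¹) = y * τ x * y⁻¹ := by
    intro x
    have e1 : (MulAut.conj y)⁻¹ (y * x * y⁻¹) = x := by
      rw [← MulAut.conj_apply, MulAut.inv_apply_self]
    rw [hτ'def, MulAut.mul_apply, MulAut.mul_apply, e1, MulAut.conj_apply]
  have hmem : ∀ x, x ∈ fixC τ t → y * x * y⁻¹ ∈ fixC τ' (y * t * y⁻¹) := by
    intro x hx
    obtain ⟨h1, h2⟩ := mem_fixC.1 hx
    refine mem_fixC.2 ⟨by rw [hτ', h1], ?_⟩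
    calc y * x * y⁻¹ * (y * t * y⁻¹) = y * (x * t) * y⁻¹ := by group
      _ = y * (t * x) * y⁻¹ := by rw [h2]
      _ = _ := by group
  have hmem' : ∀ x, x ∈ fixC τ' (y * t * y⁻¹) → y⁻¹ * x * y ∈ fixC τ t := by
    intro x hx
    obtain ⟨h1, h2⟩ := mem_fixC.1 hx
    refine mem_fixC.2 ⟨?_, ?_⟩
    · have h3 := hτ' (y⁻¹ * x * y)
      have e1 : y * (y⁻¹ * x * y) * y⁻¹ = x := by group
      rw [e1, h1] at h3
      have h4 : τ (y⁻¹ * x * y) = y⁻¹ * (y * τ (y⁻¹ * x * y) * y⁻¹) * y := by group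
      rw [h4, ← h3]
    · calc y⁻¹ * x * y * t = y⁻¹ * (x * (y * t * y⁻¹)) * y := by group
        _ = y⁻¹ * (y * t * y⁻¹ * x) * y := by rw [h2]
        _ = t * (y⁻¹ * x * y) := by group
  let E : ↥(fixC τ t) →* ↥(fixC τ' (y * t * y⁻¹)) := MonoidHom.mk' (fun x => ⟨y * x * y⁻¹, hmem x x.2⟩) (by
    intro a b
    apply Subtype.ext
    show y * ((a : ↥(D.group k)) * b) * y⁻¹ = y * a * y⁻¹ * (y * b * y⁻¹)
    group)
  have hEi : Function.Injective E := by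
    intro a b hab
    have h1 : y * (a : ↥(D.group k)) * y⁻¹ = y * b * y⁻¹ := congrArg Subtype.val hab
    exact Subtype.ext (mul_left_cancel (mul_right_cancel h1))
  have hEs : Function.Surjective E := by
    rintro ⟨x, hx⟩
    refine ⟨⟨y⁻¹ * x * y, hmem' x hx⟩, Subtype.ext ?_⟩
    show y * (y⁻¹ * x * y) * y⁻¹ = x
    group
  have hfin : Finite ↥(fixC τ' (y * t * y⁻¹)) := Finite.of_surjective E hEs
  obtain ⟨P', hP'⟩ := d'.sylP hk
  refine ⟨P'.comapOfInjective E hEi (by rw [MonoidHom.range_eq_top.2 hEs]; exact le_top), ?_⟩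
  rw [Sylow.coe_comapOfInjective, hP']
  ext x
  rw [Subgroup.mem_comap, Subgroup.mem_subgroupOf, Subgroup.mem_subgroupOf, hQ]
  exact Iff.rfl

/-- `|PK| = |QK|` -/
theorem DFr.card_PK_QK [IsAlgClosed k] (d : DFr hp cs r e τ g t) (hk : LocFin k) [Finite ↥(fixC τ t)] :
    Nat.card ↥(QK hp cs τ t) = Nat.card ↥(PK hp cs τ t) := by
  obtain ⟨P, hP⟩ := d.sylP hk
  obtain ⟨Q, hQ⟩ := d.sylQ hk
  have h1 : Nat.card ↥(Q : Subgroup ↥(fixC τ t)) = Nat.card ↥(P : Subgroup ↥(fixC τ t)) := by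
    rw [Q.card_eq_multiplicity, P.card_eq_multiplicity]
  rw [hP, hQ] at h1
  rwa [Nat.card_congr (Subgroup.subgroupOfEquivOfLe (d.QK_le hk)).toEquiv,
    Nat.card_congr (Subgroup.subgroupOfEquivOfLe (d.PK_le hk)).toEquiv] at h1

/-- **F2: `O_r(C) = 1`.** -/
theorem DFr.pCore_eq_bot [IsAlgClosed k] (d : DFr hp cs r e τ g t) (hk : LocFin k) [Finite ↥(fixC τ t)] :
    pCore r ↥(fixC τ t) = ⊥ := by
  obtain ⟨P, hP⟩ := d.sylP hk
  obtain ⟨Q, hQ⟩ := d.sylQ hk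
  rw [eq_bot_iff]
  intro x hx
  have h1 := Cfsg.Agent.Lib.Cores.pCore_le_sylow P hx
  have h2 := Cfsg.Agent.Lib.Cores.pCore_le_sylow Q hx
  rw [hP, Subgroup.mem_subgroupOf] at h1
  rw [hQ, Subgroup.mem_subgroupOf] at h2
  have h3 : (x : ↥(D.group k)) ∈ PK hp cs τ t ⊓ QK hp cs τ t := ⟨h1, h2⟩
  rw [d.PK_inf_QK hk, Subgroup.mem_bot] at h3
  exact Subgroup.mem_bot.2 (Subtype.ext h3)

/-- the representatives in `C` normalise `TK` -/
theorem DFr.conj_TK (_d : DFr hp cs r e τ g t) (hk : LocFin k) {w : W} {y s : ↥(D.group k)}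
    (hy : Rp cs (nsysTT hp cs hk r) w y) (hyC : y ∈ fixC τ t) (hs : s ∈ TK τ) : y * s * y⁻¹ ∈ TK τ := by
  have h1 := (Subgroup.mem_normalizer_iff.1 hy.mem_normalizer s).1 hs.1
  have h2 : τ (y * s * y⁻¹) = y * s * y⁻¹ := by rw [map_mul, map_mul, map_inv, (mem_fixC.1 hyC).1, hs.2]
  exact ⟨h1, h2⟩

/-- `⟨PK, QK, TK⟩ ◁ C` -/
theorem DFr.KT_normal [IsAlgClosed k] (d : DFr hp cs r e τ g t) (hk : LocFin k) :
    ((PK hp cs τ t ⊔ QK hp cs τ t ⊔ TK τ).subgroupOf (fixC τ t)).Normal := by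
  set K := PK hp cs τ t ⊔ QK hp cs τ t with hKdef
  have hKC : K ≤ fixC τ t := sup_le (d.PK_le hk) (d.QK_le hk)
  have hKn : ∀ c ∈ fixC τ t, ∀ x ∈ K, c * x * c⁻¹ ∈ K := by
    intro c hc x hx
    exact (d.KK_normal hk).conj_mem ⟨x, hKC hx⟩ hx ⟨c, hc⟩
  refine ⟨fun x hx c => ?_⟩
  rw [Subgroup.mem_subgroupOf] at hx ⊢
  have key : K ⊔ TK τ ≤ (K ⊔ TK τ).comap (MulAut.conj (c : ↥(D.group k))).toMonoidHom := by
    refine sup_le (fun z hz => ?_) (fun z hz => ?_)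
    · have h1 : (c : ↥(D.group k)) * z * (c : ↥(D.group k))⁻¹ ∈ K ⊔ TK τ :=
        Subgroup.mem_sup_left (hKn c c.2 z hz)
      exact h1
    · obtain ⟨w, u, hu, y, hyC, hy, v, hv, -, e1⟩ := d.formC hk c.2
      have hu' : u ∈ K := Subgroup.mem_sup_left hu
      have hv' : v ∈ K := Subgroup.mem_sup_left hv
      have hzC : z ∈ fixC τ t := d.TK_le hz
      have h2 : (c : ↥(D.group k)) * z * (c : ↥(D.group k))⁻¹ ∈ K ⊔ TK τ := by
        have e2 : (c : ↥(D.group k)) * z * (c : ↥(D.group k))⁻¹ =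
            u * (y * (v * (z * v⁻¹ * z⁻¹)) * y⁻¹) * (y * z * y⁻¹) * u⁻¹ := by
          rw [e1]; group
        rw [e2]
        refine mul_mem (mul_mem (mul_mem (Subgroup.mem_sup_left hu') (Subgroup.mem_sup_left ?_))
          (Subgroup.mem_sup_right (d.conj_TK hk hy hyC hz))) (inv_mem (Subgroup.mem_sup_left hu'))
        exact hKn y hyC _ (mul_mem hv' (hKn z hzC _ (inv_mem hv')))
      exact h2
  exact key hx

end

/-! ### the toral form -/

section

variable {D : ChevalleyDatum} {l : ℕ} {M : CoxeterMatrix (Fin l)} {hp : IsType D l M} {r q : ℕ} [hr : Fact r.Prime]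
  {K₀ : Type v} [Group K₀] {m : MData hp r q K₀} {s : ↥(D.group (KK r))}

theorem _root_.Cfsg.Agent.H169.RG.TorForm.orderOf_eq (f : TorForm m s) : orderOf f.t = orderOf s := by
  have h1 : orderOf (MulAut.conj f.z f.t) = orderOf f.t :=
    orderOf_injective (MulAut.conj f.z).toMonoidHom (MulAut.conj f.z).injective f.t
  have h2 : MulAut.conj f.z f.t = s := by rw [MulAut.conj_apply]; exact f.eq.symm
  rw [← h1, h2]

/-- the data of a toral form -/
theorem dfr_torForm (f : TorForm m s) (hs : (orderOf s).Coprime r) :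
    DFr hp M.toCoxeterSystem r m.e f.α f.θ f.t where
  he := m.he
  frob := f.frob
  fr := f.fr
  mem := f.mem
  fix := f.fix
  pos := f.pos
  ord := by rw [f.orderOf_eq]; exact hs

theorem finite_fixC (m : MData hp r q K₀) (s : ↥(D.group (KK r))) : Finite ↥(fixC m.σ s) := by
  have := m.fin
  have h1 : fixC m.σ s ≤ fixedSubgroup m.σ := fun _ hx => (mem_fixC.1 hx).1
  exact Finite.of_injective (Subgroup.inclusion h1) (Subgroup.inclusion_injective _)

theorem finite_fixC_α (f : TorForm m s) : Finite ↥(fixC f.α f.t) := by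
  have := finite_fixC m s
  exact Finite.of_equiv _ f.equiv.toEquiv

/-- **F2 in `Y^σ`: `O_r(C_{Y^σ}(s)) = 1` for the `r'`-elements `s`.** -/
theorem pCore_fixC (m : MData hp r q K₀) {s : ↥(D.group (KK r))} (hs : m.σ s = s)
    (hsr : (orderOf s).Coprime r) : pCore r ↥(fixC m.σ s) = ⊥ := by
  have hfin := finite_fixC m s
  have hs0 : orderOf s ≠ 0 := by
    intro h0
    rw [h0, Nat.coprime_zero_left] at hsr
    exact (Fact.out : r.Prime).ne_one hsr
  obtain ⟨f⟩ := exists_torForm m hs hs0 hsr (pow_orderOf_eq_one s)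
  have := finite_fixC_α f
  have h1 := (dfr_torForm f hsr).pCore_eq_bot (locFin r)
  rw [← Cfsg.Agent.Lib.Cores.map_equiv_pCore f.equiv r] at h1
  exact (Subgroup.map_eq_bot_iff_of_injective _ f.equiv.injective).1 h1

end

end Cfsg.Agent.H441.RG
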