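import Cfsg.Agent.H441.RG.CentTF

/-!
# S3509, exceptional groups: `m.ι.range ◁ Y^σ` and `O_r(m.ι.range ∩ C(s)) = 1` (helper441)

`m : MData hp r q K₀`.

* `pmem_pow` : the `r`-elements of `Y^σ` lie in `m.ι.range`; `range_normal` : `m.ι.range ◁ Y^σ`;
* `core_range` : `O_r(m.ι.range ∩ C(s)) = 1` for the `r'`-elements `s ∈ Y^σ` (field `core` of `H694.RG.YData`);
-/

set_option autoImplicit false
set_option linter.unusedSectionVars false

namespace Cfsg.Agent.H441.RG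

open CoxeterSystem Cfsg Cfsg.Lie Cfsg.Lie.ChevalleyDatum
open Cfsg.Agent.ChevalleyStructure Cfsg.Agent.ChevalleyStructure.Elts Cfsg.Agent.ChevalleyStructure.CoxeterGeom
  Cfsg.Agent.ChevalleyStructure.CoxeterGeomTypes Cfsg.Agent.ChevalleyStructure.NPerm
open Cfsg.Agent.Tits.Roots Cfsg.Agent.Tits.Core Cfsg.Agent.Nodes Cfsg.Agent.Nodes.Reps Cfsg.Agent.Nodes.BNOf
  Cfsg.Agent.Nodes.RGDChev Cfsg.Agent.Nodes.Bruhat Cfsg.Agent.Nodes.NormalForm Cfsg.Agent.Nodes.OppDec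
open Cfsg.Agent.KFacts.RgdField Cfsg.Agent.KFacts.RgdChevCoord
open Cfsg.Agent.BpExc Cfsg.Agent.BpExc.TorCent Cfsg.Agent.BpExc.TorChev Cfsg.Agent.BpExc.Tow
  Cfsg.Agent.BpExc.TowChev Cfsg.Agent.BpExc.Fr Cfsg.Agent.BpExc.Pair Cfsg.Agent.BpExc.LangFr Cfsg.Agent.GpExc.Field
  Cfsg.Agent.BpExc.NChev
open Cfsg.Agent.H28.RG Cfsg.Agent.H169.RG Cfsg.Agent.H469.Exc Cfsg.Agent.H316.U6

universe u v

section

variable {G : Type*} [Group G] {p : ℕ}

theorem pow_of_pgroup {P : Subgroup G} (hP : IsPGroup p ↥P) {u : G} (hu : u ∈ P) : ∃ n : ℕ, u ^ p ^ n = 1 := by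
  obtain ⟨n, hn⟩ := hP ⟨u, hu⟩
  exact ⟨n, congrArg Subtype.val hn⟩

theorem pgroup_of_pow {P : Subgroup G} (h : ∀ u ∈ P, ∃ n : ℕ, u ^ p ^ n = 1) : IsPGroup p ↥P := by
  rintro ⟨u, hu⟩
  obtain ⟨n, hn⟩ := h u hu
  exact ⟨n, Subtype.ext hn⟩

end

section

variable {D : ChevalleyDatum} {l : ℕ} {M : CoxeterMatrix (Fin l)} {hp : IsType D l M} {r q : ℕ} [hr : Fact r.Prime]
  {K₀ : Type v} [Group K₀] (m : MData hp r q K₀)

/-- **`r`-elements of `Y^σ` lie in the group** -/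
theorem pmem_pow {y : ↥(D.group (KK r))} (hy : m.σ y = y) {k : ℕ} (hk : y ^ r ^ k = 1) : y ∈ m.ι.range := by
  obtain ⟨n, hn, h1⟩ := m.idx y hy
  have h2 : n.Coprime (orderOf y) :=
    Nat.Coprime.coprime_dvd_right (orderOf_dvd_of_pow_eq_one hk) (hn.pow_right k)
  obtain ⟨a, ha⟩ := exists_pow_eq_self_of_coprime h2
  rw [← ha]
  exact pow_mem h1 a

/-- an `r`-subgroup of `Y^σ` lies in the group -/
theorem pgroup_le {P : Subgroup ↥(D.group (KK r))} (hP : IsPGroup r ↥P) (hσ : ∀ y ∈ P, m.σ y = y) : P ≤ m.ι.range := by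
  intro y hy
  obtain ⟨k, hk⟩ := pow_of_pgroup hP hy
  exact pmem_pow m (hσ y hy) hk

theorem pow_of_Sup {S : Set (Fin l → ℤ)} (hS : ∀ a ∈ S, IsRoot M.toCoxeterSystem hp.isCartan a)
    (h : (∀ a ∈ S, 0 ≤ a) ∨ ∀ a ∈ S, a ≤ 0) {u : ↥(D.group (KK r))} (hu : u ∈ RGD.Sup (XX D l (KK r)) S) :
    ∃ n : ℕ, u ^ r ^ n = 1 := by
  have := finite_W hp M.toCoxeterSystem
  have H := tow (k := KK r) hp M.toCoxeterSystem (locFin r) r
  have hpos : ∀ S : Set (Fin l → ℤ), (∀ a ∈ S, IsRoot M.toCoxeterSystem hp.isCartan a ∧ 0 ≤ a) →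
      ∀ u ∈ RGD.Sup (XX D l (KK r)) S, ∃ n : ℕ, u ^ r ^ n = 1 := by
    intro S hS u hu
    rw [← XL_eq hp (locFin r)] at hu
    obtain ⟨j, hj⟩ := H.mem_Sup.1 hu
    exact pow_of_pgroup ((H.rgd j).isPGroup_of_pos (S := S) (fun a ha => hS a ha)) hj
  rcases h with h | h
  · exact hpos S (fun a ha => ⟨hS a ha, h a ha⟩) u hu
  · -- conjugate by the longest element
    obtain ⟨w0, hw0⟩ := Cfsg.Agent.Nodes.Sys.exists_longest M.toCoxeterSystem hp.isCartan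
    obtain ⟨y, -, hy⟩ := H.exists_rp w0⁻¹
    have h1 : y * u * y⁻¹ ∈ RGD.Sup (XX D l (KK r)) {b | IsRoot M.toCoxeterSystem hp.isCartan b ∧ 0 ≤ b} := by
      rw [← XL_eq hp (locFin r)] at hu ⊢
      refine conj_SupL H hy (S := S) (S' := {b | IsRoot M.toCoxeterSystem hp.isCartan b ∧ 0 ≤ b}) hS
        (fun a ha => ⟨(hS a ha).act _, ?_⟩) hu
      have h2 := hw0 (-a) (hS a ha).neg (neg_nonneg.2 (h a ha))
      rwa [map_neg, neg_nonpos] at h2
    obtain ⟨n, hn⟩ := hpos _ (fun a ha => ha) _ h1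
    refine ⟨n, ?_⟩
    rw [conj_pow, conj_eq_one_iff] at hn
    exact hn

/-- **`m.ι.range` is normal in `Y^σ`.** -/
theorem range_normal {c x : ↥(D.group (KK r))} (hc : m.σ c = c) (hx : x ∈ m.ι.range) : c * x * c⁻¹ ∈ m.ι.range := by
  have key : (m.ι.range.comap (MulAut.conj c).toMonoidHom).comap m.ι = ⊤ := by
    refine m.gen _ (fun a ha => ?_) (fun a ha => ?_)
    · obtain ⟨n, h1⟩ := pow_of_Sup (r := r) (hp := hp) (S := RGD.Pos M.toCoxeterSystem hp.isCartan)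
        (fun a ha => ha.1) (Or.inl fun a ha => ha.2) ha
      have h2 : c * m.ι a * c⁻¹ ∈ m.ι.range := pmem_pow m (by rw [map_mul, map_mul, map_inv, hc, m.fix]) (k := n)
        (by rw [conj_pow, h1]; group)
      exact h2
    · obtain ⟨n, h1⟩ := pow_of_Sup (r := r) (hp := hp) (S := Neg M.toCoxeterSystem hp.isCartan)
        (fun a ha => ha.1) (Or.inr fun a ha => ha.2) ha
      have h2 : c * m.ι a * c⁻¹ ∈ m.ι.range := pmem_pow m (by rw [map_mul, map_mul, map_inv, hc, m.fix]) (k := n)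
        (by rw [conj_pow, h1]; group)
      exact h2
  obtain ⟨a, rfl⟩ := hx
  have h1 : a ∈ (m.ι.range.comap (MulAut.conj c).toMonoidHom).comap m.ι := by rw [key]; exact Subgroup.mem_top a
  exact h1

/-- **The field `core` of `YData`.** -/
theorem core_range : ∀ s ∈ fixedSubgroup m.σ, (∃ n : ℕ, n.Coprime r ∧ s ^ n = 1) →
    pCore r ↥(m.ι.range ⊓ Subgroup.centralizer {s}) = ⊥ := by
  rintro s hs ⟨n, hn, hsn⟩
  have hfin := finite_fixC m s
  have hsr : (orderOf s).Coprime r := hn.coprime_dvd_left (orderOf_dvd_of_pow_eq_one hsn)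
  have hle : m.ι.range ⊓ Subgroup.centralizer {s} ≤ fixC m.σ s := by
    rintro x ⟨⟨a, rfl⟩, h2⟩
    exact mem_fixC.2 ⟨m.fix a, Subgroup.mem_centralizer_singleton_iff.1 h2⟩
  have hn' : ((m.ι.range ⊓ Subgroup.centralizer {s}).subgroupOf (fixC m.σ s)).Normal := by
    refine ⟨fun x hx c => ?_⟩
    rw [Subgroup.mem_subgroupOf] at hx ⊢
    obtain ⟨h1, h2⟩ := mem_fixC.1 c.2
    refine ⟨range_normal m h1 hx.1, ?_⟩
    have h3 := (c * x * c⁻¹).2
    exact Subgroup.mem_centralizer_singleton_iff.2 (mem_fixC.1 h3).2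
  have h1 := Cfsg.Agent.Lib.Cores.map_subtype_pCore r hn'
  rw [pCore_fixC m hs hsr, inf_bot_eq] at h1
  have h2 := (Subgroup.map_eq_bot_iff_of_injective _ (Subgroup.subtype_injective _)).1 h1
  rw [← Cfsg.Agent.Lib.Cores.map_equiv_pCore (Subgroup.subgroupOfEquivOfLe hle) r, h2, Subgroup.map_bot]

end

end Cfsg.Agent.H441.RG
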